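import Cfsg.Agent.INV.R2.Swap0
import Cfsg.Agent.CHEV.SpAm4

/-!
Explicit `4 × 4` matrices, and the Heisenberg data of `Sp₄`.
-/

set_option autoImplicit false
set_option linter.unusedSectionVars false

namespace CL.R2

open Matrix Subgroup CL.ABG
open scoped MatrixGroups

section M4

variable {F : Type*} [Field F]

/-- A `4 × 4` matrix in block form. -/
def m4 (a00 a01 a02 a03 a10 a11 a12 a13 a20 a21 a22 a23 a30 a31 a32 a33 : F) : Matrix (Fin 2 ⊕ Fin 2) (Fin 2 ⊕ Fin 2) F :=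
  fromBlocks !![a00, a01; a10, a11] !![a02, a03; a12, a13] !![a20, a21; a30, a31] !![a22, a23; a32, a33]

variable {a00 a01 a02 a03 a10 a11 a12 a13 a20 a21 a22 a23 a30 a31 a32 a33 b00 b01 b02 b03 b10 b11 b12 b13 b20 b21 b22 b23 b30 b31 b32 b33 : F}

theorem m4_eta (A : Matrix (Fin 2 ⊕ Fin 2) (Fin 2 ⊕ Fin 2) F) : A = m4 (A (.inl 0) (.inl 0)) (A (.inl 0) (.inl 1)) (A (.inl 0) (.inr 0)) (A (.inl 0) (.inr 1)) (A (.inl 1) (.inl 0)) (A (.inl 1) (.inl 1)) (A (.inl 1) (.inr 0)) (A (.inl 1) (.inr 1)) (A (.inr 0) (.inl 0)) (A (.inr 0) (.inl 1)) (A (.inr 0) (.inr 0)) (A (.inr 0) (.inr 1)) (A (.inr 1) (.inl 0)) (A (.inr 1) (.inl 1)) (A (.inr 1) (.inr 0)) (A (.inr 1) (.inr 1)) := by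
  ext (i | i) (j | j) <;> fin_cases i <;> fin_cases j <;> rfl

theorem m4_mul : m4 a00 a01 a02 a03 a10 a11 a12 a13 a20 a21 a22 a23 a30 a31 a32 a33 * m4 b00 b01 b02 b03 b10 b11 b12 b13 b20 b21 b22 b23 b30 b31 b32 b33 =
    m4 (a00 * b00 + a01 * b10 + a02 * b20 + a03 * b30) (a00 * b01 + a01 * b11 + a02 * b21 + a03 * b31) (a00 * b02 + a01 * b12 + a02 * b22 + a03 * b32) (a00 * b03 + a01 * b13 + a02 * b23 + a03 * b33) (a10 * b00 + a11 * b10 + a12 * b20 + a13 * b30) (a10 * b01 + a11 * b11 + a12 * b21 + a13 * b31) (a10 * b02 + a11 * b12 + a12 * b22 + a13 * b32) (a10 * b03 + a11 * b13 + a12 * b23 + a13 * b33) (a20 * b00 + a21 * b10 + a22 * b20 + a23 * b30) (a20 * b01 + a21 * b11 + a22 * b21 + a23 * b31) (a20 * b02 + a21 * b12 + a22 * b22 + a23 * b32) (a20 * b03 + a21 * b13 + a22 * b23 + a23 * b33) (a30 * b00 + a31 * b10 + a32 * b20 + a33 * b30) (a30 * b01 + a31 * b11 + a32 * b21 + a33 * b31) (a30 * b02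 + a31 * b12 + a32 * b22 + a33 * b32) (a30 * b03 + a31 * b13 + a32 * b23 + a33 * b33) := by
  ext (i | i) (j | j) <;> fin_cases i <;> fin_cases j <;>
    simp [m4, Matrix.mul_apply, Fintype.sum_sum_type, Fin.sum_univ_two, add_assoc]

theorem m4_inj : m4 a00 a01 a02 a03 a10 a11 a12 a13 a20 a21 a22 a23 a30 a31 a32 a33 = m4 b00 b01 b02 b03 b10 b11 b12 b13 b20 b21 b22 b23 b30 b31 b32 b33 ↔
    a00 = b00 ∧ a01 = b01 ∧ a02 = b02 ∧ a03 = b03 ∧ a10 = b10 ∧ a11 = b11 ∧ a12 = b12 ∧ a13 = b13 ∧ a20 = b20 ∧ a21 = b21 ∧ a22 = b22 ∧ a23 = b23 ∧ a30 = b30 ∧ a31 = b31 ∧ a32 = b32 ∧ a33 = b33 := by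
  refine ⟨fun h => ?_, by rintro ⟨rfl, rfl, rfl, rfl, rfl, rfl, rfl, rfl, rfl, rfl, rfl, rfl, rfl, rfl, rfl, rfl⟩; rfl⟩
  exact ⟨congrFun (congrFun h (.inl 0)) (.inl 0), congrFun (congrFun h (.inl 0)) (.inl 1), congrFun (congrFun h (.inl 0)) (.inr 0), congrFun (congrFun h (.inl 0)) (.inr 1), congrFun (congrFun h (.inl 1)) (.inl 0), congrFun (congrFun h (.inl 1)) (.inl 1), congrFun (congrFun h (.inl 1)) (.inr 0), congrFun (congrFun h (.inl 1)) (.inr 1), congrFun (congrFun h (.inr 0)) (.inl 0), congrFun (congrFun h (.inr 0)) (.inl 1), congrFun (congrFun h (.inr 0)) (.inr 0), congrFun (congrFun h (.inr 0)) (.inr 1), congrFun (congrFun h (.inr 1)) (.inl 0), congrFun (congrFun h (.inr 1)) (.inl 1), congrFun (congrFun h (.inr 1)) (.inr 0), congrFun (congrFun h (.inr 1)) (.inr 1)⟩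

theorem m4_transpose : (m4 a00 a01 a02 a03 a10 a11 a12 a13 a20 a21 a22 a23 a30 a31 a32 a33)ᵀ = m4 a00 a10 a20 a30 a01 a11 a21 a31 a02 a12 a22 a32 a03 a13 a23 a33 := by
  ext (i | i) (j | j) <;> fin_cases i <;> fin_cases j <;> rfl

theorem m4_neg : -m4 a00 a01 a02 a03 a10 a11 a12 a13 a20 a21 a22 a23 a30 a31 a32 a33 = m4 (-a00) (-a01) (-a02) (-a03) (-a10) (-a11) (-a12) (-a13) (-a20) (-a21) (-a22) (-a23) (-a30) (-a31) (-a32) (-a33) := by
  ext (i | i) (j | j) <;> fin_cases i <;> fin_cases j <;> rfl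

theorem m4_one : (1 : Matrix (Fin 2 ⊕ Fin 2) (Fin 2 ⊕ Fin 2) F) = m4 1 0 0 0 0 1 0 0 0 0 1 0 0 0 0 1 := by
  ext (i | i) (j | j) <;> fin_cases i <;> fin_cases j <;> simp [m4]

theorem m4_J : J (Fin 2) F = m4 0 0 (-1) 0 0 0 0 (-1) 1 0 0 0 0 1 0 0 := by
  ext (i | i) (j | j) <;> fin_cases i <;> fin_cases j <;> simp [m4, J]

theorem m4_mulVec (w : Fin 2 ⊕ Fin 2 → F) : m4 a00 a01 a02 a03 a10 a11 a12 a13 a20 a21 a22 a23 a30 a31 a32 a33 *ᵥ w =
    Sum.elim ![a00 * w (.inl 0) + a01 * w (.inl 1) + a02 * w (.inr 0) + a03 * w (.inr 1), a10 * w (.inl 0) + a11 * w (.inl 1) + a12 * w (.inr 0) + a13 * w (.inr 1)] ![a20 * w (.inl 0) + a21 * w (.inl 1) + a22 * w (.inr 0) + a23 * w (.inr 1), a30 * w (.inl 0) + a31 * w (.inl 1) + a32 * w (.inr 0) + a33 * w (.inr 1)] := by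
  ext (i | i) <;> fin_cases i <;>
    simp [m4, Matrix.mulVec, dotProduct, Fintype.sum_sum_type, Fin.sum_univ_two, add_assoc]

theorem m4_mem : m4 a00 a01 a02 a03 a10 a11 a12 a13 a20 a21 a22 a23 a30 a31 a32 a33 ∈ symplecticGroup (Fin 2) F ↔
    a00 * a12 + a01 * a13 - a02 * a10 - a03 * a11 = 0 ∧ a00 * a22 + a01 * a23 - a02 * a20 - a03 * a21 = 1 ∧
    a00 * a32 + a01 * a33 - a02 * a30 - a03 * a31 = 0 ∧ a10 * a22 + a11 * a23 - a12 * a20 - a13 * a21 = 0 ∧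
    a10 * a32 + a11 * a33 - a12 * a30 - a13 * a31 = 1 ∧ a20 * a32 + a21 * a33 - a22 * a30 - a23 * a31 = 0 := by
  rw [SymplecticGroup.mem_iff, m4_J, m4_transpose, m4_mul, m4_mul, m4_inj]
  constructor
  · rintro ⟨-, h1, h2, h3, -, -, h4, h5, -, -, -, h6, -⟩
    exact ⟨by linear_combination -h1, by linear_combination -h2, by linear_combination -h3,
      by linear_combination -h4, by linear_combination -h5, by linear_combination -h6⟩
  · rintro ⟨h1, h2, h3, h4, h5, h6⟩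
    exact ⟨by ring, by linear_combination -h1, by linear_combination -h2, by linear_combination -h3,
      by linear_combination h1, by ring, by linear_combination -h4, by linear_combination -h5,
      by linear_combination h2, by linear_combination h4, by ring, by linear_combination -h6,
      by linear_combination h3, by linear_combination h5, by linear_combination h6, by ring⟩

end M4

end CL.R2
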